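import Cfsg.Agent.H779.G2.Stmts2
import Cfsg.Agent.H756.PU.AsmGen

/-!
# S5211: (E5), the essential subgroups for `p ≥ 5` (helper446)
-/

set_option autoImplicit false

namespace Cfsg.Agent.H446.GT

open Cfsg Cfsg.FusionSystem Cfsg.Agent.H802 Cfsg.Agent.H756.PU Cfsg.Agent.H779.G2

universe u

/-- **(E5)** -/
theorem stE5 (hGrp : StGrp.{u}) (hEss : StEss.{u}) (hOver : StOver.{u}) (hTI : StTI.{u}) (hEa : StEa.{u})
    (h5b : StE5b.{u}) (h5c : StE5c.{u}) (h5d : StE5d.{u}) (h5e : StE5e.{u}) (h5f : StE5f.{u}) : StE5.{u} := by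
  intro K _ p n _ hK hp h7 F hF E hE
  have hfin : Finite (GU K) := by
    apply Nat.finite_of_card_ne_zero
    rw [(hGrp hK).1]
    exact pow_ne_zero _ (pow_ne_zero _ (Nat.Prime.ne_zero Fact.out))
  have hS : IsPGroup p (⊤ : Subgroup (GU K)) := (hGrp hK).2.1
  have he : Ess (⊤ : Subgroup (GU K)) E p (F.autGroup E) := hEss F E hS hF hE
  have hpn : p ≤ p ^ n := Nat.le_self_pow (Nat.one_le_iff_ne_zero.1 hK.hn) p
  have h2n : 2 < p ^ n := by omega
  by_cases ha : E ≤ Qa K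
  · exact Or.inl (hEa hK (by omega) h2n he ha)
  right
  have hZ2 : Z2 K ≤ E := by
    by_contra hcon
    exact ha (h5f hK hp h7 F hF E hE hcon)
  have hZ3 : Z3 K ≤ E := by
    by_contra hcon
    by_cases hb : E ≤ Qb K
    · exact h5d hK hp F hF E hE hcon hb ha
    · exact h5e hK hp F hF E hE hZ2 hcon hb ha
  by_cases hb : E ≤ Qb K
  · exact h5b hK hp he hZ3 hb ha
  · obtain ⟨h1, h2⟩ := h5c hK hp he hZ3 hb ha
    obtain ⟨hT, hC, -, hchar, -⟩ := hTI hK h2n (Qb K) (Or.inr rfl)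
    have hn := top_le_normalizer_of_char (hchar (by omega))
    exact hOver F (Qb K) E hS hF hE h1 hn hC (hT _ (autInducedBy_le_autGroup F le_top) (syl_of_normal hS hF hn)) h2

end Cfsg.Agent.H446.GT
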