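import Cfsg.Agent.H779.G2.Stmts3
import Cfsg.Agent.H103.GT.Grp
import Cfsg.Agent.H103.GT.Coord
import Cfsg.Agent.H802.FusBasic

/-!
# S5211, `q = 3`: the automorphisms of `Q_b` (helper446)

`K` has three elements.  `Q_b` is generated by `e1, e3, e5, e6`; `mt γ` is the matrix of `γ` on `Q_b / Z₃`.
-/

set_option autoImplicit false

namespace Cfsg.Agent.H446.GT

open Cfsg Cfsg.FusionSystem Cfsg.Agent.H756.PU Cfsg.Agent.H779.G2 Cfsg.Agent.H103.GT

universe u v

/-! ### The field with three elements -/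

section field

variable {K : Type u} [Field K]

theorem three_zero (hK : HypG K 3 1) : (3 : K) = 0 := by
  have := hK.char
  exact_mod_cast CharP.cast_eq_zero K 3

theorem two_ne (hK : HypG K 3 1) : (2 : K) ≠ 0 := by
  intro h
  have h3 := three_zero hK
  have h1 : (1 : K) = 0 := by linear_combination h3 - h
  exact one_ne_zero h1

theorem tri (hK : HypG K 3 1) (x : K) : x = 0 ∨ x = 1 ∨ x = -1 := by
  have hf := hK.fin
  have hft := Fintype.ofFinite K
  have hc : Fintype.card K = 3 := by rw [← Nat.card_eq_fintype_card, hK.card, pow_one]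
  have h1 := FiniteField.pow_card x
  rw [hc] at h1
  have h2 : x * ((x - 1) * (x + 1)) = 0 := by linear_combination h1
  rcases mul_eq_zero.1 h2 with h | h
  · exact Or.inl h
  rcases mul_eq_zero.1 h with h | h
  · exact Or.inr (Or.inl (by linear_combination h))
  · exact Or.inr (Or.inr (by linear_combination h))

theorem cube (hK : HypG K 3 1) (x : K) : x ^ 3 = x := by
  rcases tri hK x with rfl | rfl | rfl <;> ring

theorem sq_one (hK : HypG K 3 1) {x : K} (hx : x ≠ 0) : x * x = 1 := by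
  rcases tri hK x with rfl | rfl | rfl
  · exact absurd rfl hx
  · ring
  · ring

theorem pm (hK : HypG K 3 1) {x : K} (hx : x ≠ 0) : x = 1 ∨ x = -1 := (tri hK x).resolve_left hx

theorem eq_zero_of_neg (hK : HypG K 3 1) {x : K} (h : x = -x) : x = 0 := by
  have h2 : 2 * x = 0 := by linear_combination h
  exact (mul_eq_zero.1 h2).resolve_left (two_ne hK)

theorem ring_id (hK : HypG K 3 1) (τ : K ≃+* K) (x : K) : τ x = x := by
  rcases tri hK x with rfl | rfl | rfl <;> simp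

end field

/-! ### `Q_b` -/

section qb

variable {K : Type u} [Field K]

/-- the elements of `Q_b` -/
def qb (a c d e f : K) : Qb K := ⟨⟨a, 0, c, d, e, f⟩, rfl⟩

theorem eq_qb (g : Qb K) : g = qb (g : GU K).a (g : GU K).c (g : GU K).d (g : GU K).e (g : GU K).f := by
  apply Subtype.ext
  exact GU.ext rfl g.2 rfl rfl rfl rfl

theorem qb_mul (h3 : (3 : K) = 0) (a c d e f a' c' d' e' f' : K) :
    qb a c d e f * qb a' c' d' e' f' = qb (a + a') (c + c') (d + d' + 2 * c * a') (e + e') (f + f') := by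
  apply Subtype.ext
  ext
  · rfl
  · show (0 : K) + 0 = 0
    ring
  · show c + c' + 0 * a' = c + c'
    ring
  · show d + d' + 2 * c * a' + 0 * a' ^ 2 = d + d' + 2 * c * a'
    ring
  · show e + e' + 3 * d * a' + 3 * c * a' ^ 2 + 0 * a' ^ 3 = e + e'
    linear_combination (d * a' + c * a' ^ 2) * h3
  · show f + f' + 3 * d * c' - e * 0 + 6 * c * a' * c' + 3 * c ^ 2 * a' - 3 * d * a' * 0
      + 3 * 0 * c * a' ^ 2 + 3 * 0 * a' ^ 2 * c' - 3 * c * a' ^ 2 * 0 - 0 * a' ^ 3 * 0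
      + 0 ^ 2 * a' ^ 3 = f + f'
    linear_combination (d * c' + 2 * c * a' * c' + c ^ 2 * a') * h3

theorem qb_one : qb (0 : K) 0 0 0 0 = 1 := rfl

theorem qb_inj {a c d e f a' c' d' e' f' : K} (h : qb a c d e f = qb a' c' d' e' f') :
    a = a' ∧ c = c' ∧ d = d' ∧ e = e' ∧ f = f' := by
  have h1 : (⟨a, 0, c, d, e, f⟩ : GU K) = ⟨a', 0, c', d', e', f'⟩ := congrArg Subtype.val h
  simp only [GU.mk.injEq] at h1
  tauto

/-- two homomorphisms on `Q_b` which agree on the generators are equal -/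
theorem hom_ext (hK : HypG K 3 1) {M : Type v} [Group M] {φ ψ : Qb K →* M}
    (h1 : φ (qb 1 0 0 0 0) = ψ (qb 1 0 0 0 0)) (hc : φ (qb 0 1 0 0 0) = ψ (qb 0 1 0 0 0))
    (he : φ (qb 0 0 0 1 0) = ψ (qb 0 0 0 1 0)) (hf : φ (qb 0 0 0 0 1) = ψ (qb 0 0 0 0 1)) : φ = ψ := by
  have h3 := three_zero hK
  let L : Subgroup (Qb K) := φ.eqLocus ψ
  have key : ∀ F : K → Qb K, (∀ s t, F (s + t) = F s * F t) → F 1 ∈ L → ∀ t, F t ∈ L := by
    intro F hF h t
    have h0 : F 0 = 1 := by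
      have := hF 0 0
      rw [add_zero] at this
      exact left_eq_mul.1 this
    rcases tri hK t with rfl | rfl | rfl
    · rw [h0]; exact one_mem L
    · exact h
    · have h4 : F (-1) = (F 1)⁻¹ := by
        rw [eq_inv_iff_mul_eq_one, ← hF]
        simpa using h0
      rw [h4]
      exact inv_mem h
  have m1 : ∀ t, qb t 0 0 0 0 ∈ L := key (fun t => qb t 0 0 0 0) (fun s t => by
    rw [qb_mul h3]; congr 1 <;> ring) h1
  have mc : ∀ t, qb 0 t 0 0 0 ∈ L := key (fun t => qb 0 t 0 0 0) (fun s t => by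
    rw [qb_mul h3]; congr 1 <;> ring) hc
  have me : ∀ t, qb 0 0 0 t 0 ∈ L := key (fun t => qb 0 0 0 t 0) (fun s t => by
    rw [qb_mul h3]; congr 1 <;> ring) he
  have mf : ∀ t, qb 0 0 0 0 t ∈ L := key (fun t => qb 0 0 0 0 t) (fun s t => by
    rw [qb_mul h3]; congr 1 <;> ring) hf
  have md : ∀ t, qb 0 0 t 0 0 ∈ L := key (fun t => qb 0 0 t 0 0) (fun s t => by
    rw [qb_mul h3]; congr 1 <;> ring) (by
      have h4 : qb (0 : K) 0 1 0 0 = qb (-1) 0 0 0 0 * (qb 0 (-1) 0 0 0 * (qb 1 0 0 0 0 * qb 0 1 0 0 0)) := by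
        rw [qb_mul h3, qb_mul h3, qb_mul h3]
        congr 1
        · ring
        · ring
        · linear_combination h3
        · ring
        · ring
      rw [h4]
      exact mul_mem (m1 _) (mul_mem (mc _) (mul_mem (m1 _) (mc _))))
  ext g
  have h5 : g = qb (g : GU K).a 0 0 0 0 * (qb 0 (g : GU K).c 0 0 0 * (qb 0 0 (g : GU K).d 0 0 *
      (qb 0 0 0 (g : GU K).e 0 * qb 0 0 0 0 (g : GU K).f))) := by
    conv_lhs => rw [eq_qb g]
    rw [qb_mul h3, qb_mul h3, qb_mul h3, qb_mul h3]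
    congr 1 <;> ring
  have h6 : g ∈ L := by
    rw [h5]
    exact mul_mem (m1 _) (mul_mem (mc _) (mul_mem (md _) (mul_mem (me _) (mf _))))
  exact h6

/-- additive functions on `Q_b` -/
theorem add_formula (hK : HypG K 3 1) {φ : Qb K → K} (hφ : ∀ g h, φ (g * h) = φ g + φ h) (g : Qb K) :
    φ g = (g : GU K).a * φ (qb 1 0 0 0 0) + (g : GU K).c * φ (qb 0 1 0 0 0) + (g : GU K).e * φ (qb 0 0 0 1 0) +
      (g : GU K).f * φ (qb 0 0 0 0 1) := by
  have h3 := three_zero hK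
  let Φ : Qb K →* Multiplicative K := MonoidHom.mk' (fun g => Multiplicative.ofAdd (φ g)) (fun g h => by
    rw [hφ]; rfl)
  let Ψ : Qb K →* Multiplicative K := MonoidHom.mk' (fun g => Multiplicative.ofAdd
    ((g : GU K).a * φ (qb 1 0 0 0 0) + (g : GU K).c * φ (qb 0 1 0 0 0) + (g : GU K).e * φ (qb 0 0 0 1 0) +
      (g : GU K).f * φ (qb 0 0 0 0 1))) (fun g h => by
    have e : g * h = qb ((g : GU K).a + (h : GU K).a) ((g : GU K).c + (h : GU K).c)
        ((g : GU K).d + (h : GU K).d + 2 * (g : GU K).c * (h : GU K).a) ((g : GU K).e + (h : GU K).e)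
        ((g : GU K).f + (h : GU K).f) := by
      conv_lhs => rw [eq_qb g, eq_qb h]
      rw [qb_mul h3]
    rw [e, ← ofAdd_add]
    congr 1
    show ((g : GU K).a + (h : GU K).a) * φ (qb 1 0 0 0 0) + ((g : GU K).c + (h : GU K).c) * φ (qb 0 1 0 0 0) +
      ((g : GU K).e + (h : GU K).e) * φ (qb 0 0 0 1 0) + ((g : GU K).f + (h : GU K).f) * φ (qb 0 0 0 0 1) = _
    ring)
  have h4 : Φ = Ψ := by
    apply hom_ext hK <;>
    · apply congrArg Multiplicative.ofAdd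
      simp [qb]
  exact congrArg (fun θ : Qb K →* Multiplicative K => Multiplicative.toAdd (θ g)) h4

/-- the additive coordinates -/
theorem coord_mul (h3 : (3 : K) = 0) (g h : Qb K) : ((g * h : Qb K) : GU K).a = (g : GU K).a + (h : GU K).a ∧
    ((g * h : Qb K) : GU K).c = (g : GU K).c + (h : GU K).c ∧
    ((g * h : Qb K) : GU K).d = (g : GU K).d + (h : GU K).d + 2 * (g : GU K).c * (h : GU K).a ∧
    ((g * h : Qb K) : GU K).e = (g : GU K).e + (h : GU K).e ∧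
    ((g * h : Qb K) : GU K).f = (g : GU K).f + (h : GU K).f := by
  have e : g * h = qb ((g : GU K).a + (h : GU K).a) ((g : GU K).c + (h : GU K).c)
      ((g : GU K).d + (h : GU K).d + 2 * (g : GU K).c * (h : GU K).a) ((g : GU K).e + (h : GU K).e)
      ((g : GU K).f + (h : GU K).f) := by
    conv_lhs => rw [eq_qb g, eq_qb h]
    rw [qb_mul h3]
  rw [e]
  exact ⟨rfl, rfl, rfl, rfl, rfl⟩

/-- the centre of `Q_b` -/
theorem central_iff (hK : HypG K 3 1) (z : Qb K) :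
    (∀ g : Qb K, z * g = g * z) ↔ (z : GU K).a = 0 ∧ (z : GU K).c = 0 := by
  have h3 := three_zero hK
  constructor
  · intro h
    have h1 := congrArg (fun g : Qb K => (g : GU K).d) (h (qb 1 0 0 0 0))
    have h2 := congrArg (fun g : Qb K => (g : GU K).d) (h (qb 0 1 0 0 0))
    simp only [(coord_mul h3 _ _).2.2.1] at h1 h2
    simp only [qb] at h1 h2
    constructor
    · have h4 : 2 * (z : GU K).a = 0 := by linear_combination -h2
      exact (mul_eq_zero.1 h4).resolve_left (two_ne hK)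
    · have h4 : 2 * (z : GU K).c = 0 := by linear_combination h1
      exact (mul_eq_zero.1 h4).resolve_left (two_ne hK)
  · rintro ⟨ha, hc⟩ g
    apply Subtype.ext
    obtain ⟨e1, e2, e3, e4, e5⟩ := coord_mul h3 z g
    obtain ⟨k1, k2, k3, k4, k5⟩ := coord_mul h3 g z
    apply GU.ext
    · rw [e1, k1, add_comm]
    · exact (z * g).2.trans (g * z).2.symm
    · rw [e2, k2, add_comm]
    · rw [e3, k3, ha, hc]; ring
    · rw [e4, k4, add_comm]
    · rw [e5, k5, add_comm]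

/-- automorphisms preserve the centre -/
theorem map_central (hK : HypG K 3 1) (γ : MulAut (Qb K)) {z : Qb K} (ha : (z : GU K).a = 0) (hc : (z : GU K).c = 0) :
    ((γ z : Qb K) : GU K).a = 0 ∧ ((γ z : Qb K) : GU K).c = 0 := by
  rw [← central_iff hK]
  intro g
  have h1 := (central_iff hK z).2 ⟨ha, hc⟩ (γ⁻¹ g)
  have h2 := congrArg γ h1
  rw [map_mul, map_mul] at h2
  have h4 : γ (γ⁻¹ g) = g := MulAut.apply_inv_self _ _ _
  rwa [h4] at h2

/-- the formulas for an automorphism -/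
theorem form_a (hK : HypG K 3 1) (γ : MulAut (Qb K)) (g : Qb K) : ((γ g : Qb K) : GU K).a =
    (g : GU K).a * ((γ (qb 1 0 0 0 0) : Qb K) : GU K).a + (g : GU K).c * ((γ (qb 0 1 0 0 0) : Qb K) : GU K).a := by
  rw [add_formula hK (φ := fun g => ((γ g : Qb K) : GU K).a) (fun g h => by
    rw [map_mul, (coord_mul (three_zero hK) _ _).1]) g, (map_central hK γ (z := qb 0 0 0 1 0) rfl rfl).1,
    (map_central hK γ (z := qb 0 0 0 0 1) rfl rfl).1]
  ring

theorem form_c (hK : HypG K 3 1) (γ : MulAut (Qb K)) (g : Qb K) : ((γ g : Qb K) : GU K).c =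
    (g : GU K).a * ((γ (qb 1 0 0 0 0) : Qb K) : GU K).c + (g : GU K).c * ((γ (qb 0 1 0 0 0) : Qb K) : GU K).c := by
  rw [add_formula hK (φ := fun g => ((γ g : Qb K) : GU K).c) (fun g h => by
    rw [map_mul, (coord_mul (three_zero hK) _ _).2.1]) g, (map_central hK γ (z := qb 0 0 0 1 0) rfl rfl).2,
    (map_central hK γ (z := qb 0 0 0 0 1) rfl rfl).2]
  ring

theorem form_e (hK : HypG K 3 1) (γ : MulAut (Qb K)) (g : Qb K) : ((γ g : Qb K) : GU K).e =
    (g : GU K).a * ((γ (qb 1 0 0 0 0) : Qb K) : GU K).e + (g : GU K).c * ((γ (qb 0 1 0 0 0) : Qb K) : GU K).e +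
    (g : GU K).e * ((γ (qb 0 0 0 1 0) : Qb K) : GU K).e + (g : GU K).f * ((γ (qb 0 0 0 0 1) : Qb K) : GU K).e :=
  add_formula hK (φ := fun g => ((γ g : Qb K) : GU K).e) (fun g h => by
    rw [map_mul, (coord_mul (three_zero hK) _ _).2.2.2.1]) g

theorem form_f (hK : HypG K 3 1) (γ : MulAut (Qb K)) (g : Qb K) : ((γ g : Qb K) : GU K).f =
    (g : GU K).a * ((γ (qb 1 0 0 0 0) : Qb K) : GU K).f + (g : GU K).c * ((γ (qb 0 1 0 0 0) : Qb K) : GU K).f +
    (g : GU K).e * ((γ (qb 0 0 0 1 0) : Qb K) : GU K).f + (g : GU K).f * ((γ (qb 0 0 0 0 1) : Qb K) : GU K).f :=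
  add_formula hK (φ := fun g => ((γ g : Qb K) : GU K).f) (fun g h => by
    rw [map_mul, (coord_mul (three_zero hK) _ _).2.2.2.2]) g

/-- the matrix on `Q_b / Z₃` -/
def mt (γ : MulAut (Qb K)) : Matrix (Fin 2) (Fin 2) K :=
  !![((γ (qb 1 0 0 0 0) : Qb K) : GU K).a, ((γ (qb 0 1 0 0 0) : Qb K) : GU K).a;
    ((γ (qb 1 0 0 0 0) : Qb K) : GU K).c, ((γ (qb 0 1 0 0 0) : Qb K) : GU K).c]

theorem mt_one : mt (1 : MulAut (Qb K)) = 1 := by
  rw [Matrix.one_fin_two]
  rfl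

theorem mt_mul (hK : HypG K 3 1) (γ γ' : MulAut (Qb K)) : mt (γ * γ') = mt γ * mt γ' := by
  have h1 := form_a hK γ (γ' (qb 1 0 0 0 0))
  have h2 := form_a hK γ (γ' (qb 0 1 0 0 0))
  have h4 := form_c hK γ (γ' (qb 1 0 0 0 0))
  have h5 := form_c hK γ (γ' (qb 0 1 0 0 0))
  unfold mt
  rw [Matrix.mul_fin_two]
  simp only [MulAut.mul_apply]
  rw [h1, h2, h4, h5]
  congr 1
  congr 1
  · ring_nf
  · congr 1
    ring_nf

theorem eq_of_mt (hK : HypG K 3 1) {γ : MulAut (Qb K)} (h : mt γ = 1) (g : Qb K) :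
    ((γ g : Qb K) : GU K).a = (g : GU K).a ∧ ((γ g : Qb K) : GU K).c = (g : GU K).c := by
  unfold mt at h
  rw [Matrix.one_fin_two] at h
  have h1 := congrFun (congrFun h 0) 0
  have h2 := congrFun (congrFun h 0) 1
  have h4 := congrFun (congrFun h 1) 0
  have h5 := congrFun (congrFun h 1) 1
  simp at h1 h2 h4 h5
  rw [form_a hK, form_c hK, h1, h2, h4, h5]
  constructor <;> ring

theorem mt_inv_of (hK : HypG K 3 1) {γ : MulAut (Qb K)} {M : Matrix (Fin 2) (Fin 2) K} (h : mt γ * M = 1) :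
    mt γ⁻¹ = M := by
  calc mt γ⁻¹ = mt γ⁻¹ * (mt γ * M) := by rw [h, mul_one]
    _ = mt (γ⁻¹ * γ) * M := by rw [mt_mul hK, mul_assoc]
    _ = M := by rw [inv_mul_cancel, mt_one, one_mul]

/-! ### Conjugations and tori on `Q_b` -/

/-- conjugation by `x ∈ S` on `Q_b` -/
def cj (x : GU K) : MulAut (Qb K) := MulAut.conjNormal x

theorem cj_apply (x : GU K) (g : Qb K) : ((cj x g : Qb K) : GU K) = x * (g : GU K) * x⁻¹ := rfl

theorem cj_mul (x y : GU K) : cj (x * y) = cj x * cj y := map_mul _ _ _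

theorem mem_indu {γ : MulAut (Qb K)} : γ ∈ autInducedBy ⊤ (Qb K) ↔ ∃ x : GU K, γ = cj x := by
  rw [H802.mem_autInducedBy_iff]
  constructor
  · rintro ⟨x, -, hx⟩
    exact ⟨x, MulEquiv.ext fun g => Subtype.ext (hx g)⟩
  · rintro ⟨x, rfl⟩
    exact ⟨x, Subgroup.mem_top _, fun g => rfl⟩

theorem mem_inn {γ : MulAut (Qb K)} : γ ∈ Inn (Qb K) ↔ ∃ y : Qb K, γ = cj (y : GU K) := by
  constructor
  · rintro ⟨y, rfl⟩
    exact ⟨y, MulAut.conjNormal_val.symm⟩
  · rintro ⟨y, rfl⟩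
    exact ⟨y, MulAut.conjNormal_val.symm⟩

/-- the coordinates of the conjugates of the elements of `Q_b` -/
theorem cj_coord (hK : HypG K 3 1) (x : GU K) (g : Qb K) :
    ((cj x g : Qb K) : GU K).a = (g : GU K).a ∧ ((cj x g : Qb K) : GU K).c = (g : GU K).c + x.b * (g : GU K).a ∧
    (x.b = 0 → ((cj x g : Qb K) : GU K).d = (g : GU K).d + x.a * (g : GU K).c - x.c * (g : GU K).a ∧
      ((cj x g : Qb K) : GU K).e = (g : GU K).e ∧ ((cj x g : Qb K) : GU K).f = (g : GU K).f) := by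
  have h3 := three_zero hK
  have hb : (g : GU K).b = 0 := g.2
  refine ⟨cj_a x g, ?_, fun hx => ⟨?_, ?_, ?_⟩⟩
  · rw [cj_apply, cj_c, hb]; ring
  · rw [cj_apply, cj_d, hb, hx]
    linear_combination (-x.a * (g : GU K).c + x.c * (g : GU K).a) * h3
  · rw [cj_apply, cj_e, hb, hx]
    linear_combination (-2 * x.a * x.c * (g : GU K).a - x.a * (g : GU K).d + x.a ^ 2 * (g : GU K).c +
      x.c * (g : GU K).a ^ 2 + x.d * (g : GU K).a) * h3
  · rw [cj_apply, cj_f, hb, hx]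
    linear_combination (-x.a * (g : GU K).c ^ 2 + 2 * x.c * (g : GU K).a * (g : GU K).c - x.c * (g : GU K).d -
      x.c ^ 2 * (g : GU K).a + x.d * (g : GU K).c) * h3

theorem mt_cj (hK : HypG K 3 1) (x : GU K) : mt (cj x) = !![1, 0; x.b, 1] := by
  obtain ⟨h1, h2, -⟩ := cj_coord hK x (qb 1 0 0 0 0)
  obtain ⟨h4, h5, -⟩ := cj_coord hK x (qb 0 1 0 0 0)
  unfold mt
  rw [h1, h2, h4, h5]
  simp [qb]

/-- the root element `x_β(t)` on `Z₃` -/
theorem cj_x2 (t e f : K) : cj (x2 t) (qb 0 0 0 e f) = qb 0 0 0 e (f + t * e) := by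
  apply Subtype.ext
  rw [cj_apply]
  apply GU.ext
  · rw [cj_a]; rfl
  · rw [cj_b]; rfl
  · rw [cj_c]; simp [x2, qb]
  · rw [cj_d]; simp [x2, qb]
  · rw [cj_e]; simp [x2, qb]
  · rw [cj_f]; simp [x2, qb]; ring

/-- the restriction of an automorphism preserving `Q_b` -/
theorem exists_res (hK : HypG K 3 1) {α : MulAut (GU K)} (h : ∀ g : GU K, g.b = 0 → (α g).b = 0) :
    ∃ γ : MulAut (Qb K), IsR α γ := by
  have hf := hK.fin
  refine ⟨mkAut (fun g => ⟨α g, h g g.2⟩) (fun x y => Subtype.ext (map_mul α _ _)) (fun x hx => ?_), fun e => rfl⟩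
  apply Subtype.ext
  have h1 : α (x : GU K) = 1 := congrArg Subtype.val hx
  exact (map_eq_one_iff α α.injective).1 h1

theorem res_unique {α : MulAut (GU K)} {γ γ' : MulAut (Qb K)} (h : IsR α γ) (h' : IsR α γ') : γ = γ' :=
  MulEquiv.ext fun g => Subtype.ext ((h g).trans (h' g).symm)

/-- the torus on `Q_b` -/
structure TorB (γ : MulAut (Qb K)) (s t : K) : Prop where
  ne1 : s ≠ 0
  ne2 : t ≠ 0
  a : ∀ g : Qb K, ((γ g : Qb K) : GU K).a = s * (g : GU K).a
  c : ∀ g : Qb K, ((γ g : Qb K) : GU K).c = s * t * (g : GU K).c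
  d : ∀ g : Qb K, ((γ g : Qb K) : GU K).d = t * (g : GU K).d
  e : ∀ g : Qb K, ((γ g : Qb K) : GU K).e = s * t * (g : GU K).e
  f : ∀ g : Qb K, ((γ g : Qb K) : GU K).f = s * (g : GU K).f

theorem torB_of (hK : HypG K 3 1) {α : MulAut (GU K)} {s t : K} {τ : K ≃+* K} (h : IsTor α s t τ)
    {γ : MulAut (Qb K)} (hγ : IsR α γ) : TorB γ s t where
  ne1 := h.ne1
  ne2 := h.ne2
  a g := by rw [hγ, h.a, ring_id hK]
  c g := by rw [hγ, h.c, ring_id hK]
  d g := by rw [hγ, h.d, ring_id hK]; linear_combination t * (g : GU K).d * sq_one hK h.ne1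
  e g := by
    rw [hγ, h.e, ring_id hK]
    linear_combination s * t * (g : GU K).e * sq_one hK h.ne1
  f g := by
    rw [hγ, h.f, ring_id hK]
    linear_combination s * (g : GU K).f * sq_one hK h.ne2 + s * t ^ 2 * (g : GU K).f * sq_one hK h.ne1

theorem TorB.mt {γ : MulAut (Qb K)} {s t : K} (h : TorB γ s t) : GT.mt γ = !![s, 0; 0, s * t] := by
  unfold GT.mt
  rw [h.a, h.a, h.c, h.c]
  simp [qb]

end qb

/-! ### `Γ` -/

section gam

variable {K : Type u} [Field K] {Γ : Subgroup (MulAut (Qb K))} {D : Subgroup (MulAut (GU K))}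

omit [Field K] in
theorem mk2 {a b c d a' b' c' d' : K} (h1 : a = a') (h2 : b = b') (h3 : c = c') (h4 : d = d') :
    !![a, b; c, d] = !![a', b'; c', d'] := by rw [h1, h2, h3, h4]

theorem cj_mem (hP : Par 3 (Qb K) Γ D) (x : GU K) : cj x ∈ Γ := hP.indu (mem_indu.2 ⟨x, rfl⟩)

theorem faith (hK : HypG K 3 1) (h0 : StLb0.{u}) (hP : Par 3 (Qb K) Γ D) :
    (∀ γ ∈ Γ, mt γ = 1 → ∃ y : Qb K, γ = cj (y : GU K)) ∧ (∃ γ ∈ Γ, mt γ 0 1 ≠ 0) := by
  obtain ⟨h1, γ, hγ, g, hg, hg'⟩ := h0 hK Γ hP.indu hP.syl hP.nn (fun γ hγ hn => by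
    obtain ⟨x, d, -, hd⟩ := hP.norm γ hγ hn
    exact ⟨MulAut.conj x * d, fun e => hd e⟩)
  refine ⟨fun γ hγ h => mem_inn.1 (h1 γ hγ (eq_of_mt hK h)), γ, hγ, fun h => hg' ?_⟩
  have h2 : ((γ (qb 0 1 0 0 0) : Qb K) : GU K).a = 0 := h
  rw [form_a hK, hg, h2]
  ring

theorem exists_w (hK : HypG K 3 1) (hP : Par 3 (Qb K) Γ D) {γ : MulAut (Qb K)} (hγ : γ ∈ Γ) (h : mt γ 0 1 ≠ 0) :
    ∃ w ∈ Γ, mt w = !![0, -1; 1, 0] := by
  obtain ⟨p, q, r, s, hM⟩ : ∃ p q r s, mt γ = !![p, q; r, s] := ⟨_, _, _, _, rfl⟩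
  have hq : q ≠ 0 := by rw [hM] at h; simpa using h
  have hq2 := sq_one hK hq
  obtain ⟨γ2, hγ2, r', h2⟩ : ∃ γ2 ∈ Γ, ∃ r', mt γ2 = !![0, q; r', 0] := by
    refine ⟨cj (x2 (-(q * s))) * γ * cj (x2 (-(p * q))), mul_mem (mul_mem (cj_mem hP _) hγ) (cj_mem hP _),
      (-(q * s) * p + 1 * r) * 1 + (-(q * s) * q + 1 * s) * (-(p * q)), ?_⟩
    rw [mt_mul hK, mt_mul hK, mt_cj hK, mt_cj hK, hM, Matrix.mul_fin_two, Matrix.mul_fin_two]
    refine mk2 ?_ ?_ rfl ?_
    · show (1 * p + 0 * r) * 1 + (1 * q + 0 * s) * (-(p * q)) = 0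
      linear_combination -p * hq2
    · show (1 * p + 0 * r) * 0 + (1 * q + 0 * s) * 1 = q
      ring
    · show (-(q * s) * p + 1 * r) * 0 + (-(q * s) * q + 1 * s) * 1 = 0
      linear_combination -s * hq2
  have hr : r' ≠ 0 := by
    rintro rfl
    have h4 : mt γ2 * mt γ2⁻¹ = 1 := by rw [← mt_mul hK, mul_inv_cancel, mt_one]
    rw [h2] at h4
    have h5 := congrFun (congrFun h4 1) 1
    rw [Matrix.mul_apply, Fin.sum_univ_two] at h5
    simp at h5
  have hr2 := sq_one hK hr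
  have h6 : mt γ2⁻¹ = !![0, r'; q, 0] := by
    apply mt_inv_of hK
    rw [h2, Matrix.mul_fin_two, Matrix.one_fin_two]
    refine mk2 ?_ ?_ ?_ ?_
    · linear_combination hq2
    · ring
    · ring
    · linear_combination hr2
  refine ⟨cj (x2 1) * (γ2 * cj (x2 (-(r' * q))) * γ2⁻¹) * cj (x2 1),
    mul_mem (mul_mem (cj_mem hP _) (mul_mem (mul_mem hγ2 (cj_mem hP _)) (inv_mem hγ2))) (cj_mem hP _), ?_⟩
  rw [mt_mul hK, mt_mul hK, mt_mul hK, mt_mul hK, mt_cj hK, mt_cj hK, h2, h6, Matrix.mul_fin_two, Matrix.mul_fin_two,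
    Matrix.mul_fin_two, Matrix.mul_fin_two]
  simp only [show (x2 (1 : K)).b = 1 from rfl, show (x2 (-(r' * q))).b = -(r' * q) from rfl]
  rcases pm hK hq with rfl | rfl <;> rcases pm hK hr with rfl | rfl <;>
  · refine mk2 ?_ ?_ ?_ ?_ <;> ring

end gam

end Cfsg.Agent.H446.GT
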