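import Cfsg.Agent.H446.GT.QThree

/-!
# S5211, `q = 3`: `Q_b` (helper446)
-/

set_option autoImplicit false

namespace Cfsg.Agent.H446.GT

open Cfsg Cfsg.FusionSystem Cfsg.Agent.H756.PU Cfsg.Agent.H779.G2 Cfsg.Agent.H103.GT

universe u v

section gam

variable {K : Type u} [Field K] {Γ : Subgroup (MulAut (Qb K))} {D : Subgroup (MulAut (GU K))}

/-- the elements of `D` leaving `Q_b` invariant -/
theorem tor_of_D (hK : HypG K 3 1) (hD : D ≤ TT K) {d : MulAut (GU K)} (hd : d ∈ D)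
    (h : (d (x1 1)).b = 0) : ∃ s t, IsTor d s t (RingEquiv.refl K) := by
  have hf := hK.fin
  rcases mem_TT (hD hd) with ⟨s, t, τ, hτ⟩ | ⟨s, t, τ, α', ρ, h', hρ, rfl⟩
  · have : τ = RingEquiv.refl K := RingEquiv.ext fun x => ring_id hK τ x
    subst this
    exact ⟨s, t, hτ⟩
  · exfalso
    rw [MulAut.mul_apply, h'.b, hρ.b, ring_id hK] at h
    have h1 : (x1 (1 : K)).a = 1 := rfl
    rw [h1] at h
    exact h'.ne2 (by linear_combination h)

theorem normAut_of (hK : HypG K 3 1) (hP : Par 3 (Qb K) Γ D)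
    (hf : ∀ γ ∈ Γ, mt γ = 1 → ∃ y : Qb K, γ = cj (y : GU K)) {γ : MulAut (Qb K)} (hγ : γ ∈ Γ)
    (h : ∀ t : K, ∃ t' : K, mt γ * !![1, 0; t, 1] * mt γ⁻¹ = !![1, 0; t', 1]) : NormAut ⊤ γ := by
  intro x hx
  obtain ⟨g, rfl⟩ := mem_indu.1 hx
  obtain ⟨t', ht'⟩ := h g.b
  have h1 : γ * cj g * γ⁻¹ * cj (x2 (-t')) ∈ Γ :=
    mul_mem (mul_mem (mul_mem hγ (cj_mem hP _)) (inv_mem hγ)) (cj_mem hP _)
  obtain ⟨y, hy⟩ := hf _ h1 (by
    rw [mt_mul hK, mt_mul hK, mt_mul hK, mt_cj hK, mt_cj hK, ht', Matrix.mul_fin_two, Matrix.one_fin_two]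
    show !![1 * 1 + 0 * -t', 1 * 0 + 0 * 1; t' * 1 + 1 * -t', t' * 0 + 1 * 1] = !![1, 0; 0, 1]
    refine mk2 ?_ ?_ ?_ ?_ <;> ring)
  refine mem_indu.2 ⟨(y : GU K) * (x2 (-t'))⁻¹, ?_⟩
  rw [cj_mul, ← hy]
  have e : cj (x2 (-t'))⁻¹ = (cj (x2 (-t')))⁻¹ := map_inv MulAut.conjNormal _
  rw [e]
  group

theorem neg_one_mem (hK : HypG K 3 1) (hP : Par 3 (Qb K) Γ D)
    (hf : ∀ γ ∈ Γ, mt γ = 1 → ∃ y : Qb K, γ = cj (y : GU K)) {w : MulAut (Qb K)} (hw : w ∈ Γ)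
    (hM : mt w = !![0, -1; 1, 0]) : ∃ d ∈ D, IsTor d (-1) 1 (RingEquiv.refl K) := by
  have h1 : mt (w * w) = !![-1, 0; 0, -1] := by
    rw [mt_mul hK, hM, Matrix.mul_fin_two]
    refine mk2 ?_ ?_ ?_ ?_ <;> ring
  have h2 : mt (w * w)⁻¹ = !![-1, 0; 0, -1] := by
    apply mt_inv_of hK
    rw [h1, Matrix.mul_fin_two, Matrix.one_fin_two]
    refine mk2 ?_ ?_ ?_ ?_ <;> ring
  have hww : w * w ∈ Γ := mul_mem hw hw
  have hn : NormAut ⊤ (w * w) := normAut_of hK hP hf hww fun t => ⟨t, by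
    rw [h1, h2, Matrix.mul_fin_two, Matrix.mul_fin_two]
    refine mk2 ?_ ?_ ?_ ?_ <;> ring⟩
  obtain ⟨x, d, hd, hxd⟩ := hP.norm _ hww hn
  have e1 := hxd (qb 1 0 0 0 0)
  have e3 := hxd (qb 0 1 0 0 0)
  have hb : (d (x1 1)).b = 0 := by
    have h4 := congrArg GU.b e1
    rw [cj_b] at h4
    exact h4.symm.trans ((w * w) (qb 1 0 0 0 0)).2
  obtain ⟨s, t, hd'⟩ := tor_of_D hK hP.D_le hd hb
  have m1 : ((((w * w) (qb 1 0 0 0 0)) : Qb K) : GU K).a = -1 := congrFun (congrFun h1 0) 0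
  have m3 : ((((w * w) (qb 0 1 0 0 0)) : Qb K) : GU K).c = -1 := congrFun (congrFun h1 1) 1
  rw [e1, cj_a, hd'.a] at m1
  rw [e3, cj_c, hd'.c, hd'.a, hd'.b] at m3
  simp only [qb, RingEquiv.refl_apply] at m1 m3
  have hs : s = -1 := by linear_combination m1
  subst hs
  have ht : t = 1 := by linear_combination -m3
  subst ht
  exact ⟨d, hd, hd'⟩

theorem tor_unique {α β : MulAut (GU K)} {s t : K} {τ : K ≃+* K} (h : IsTor α s t τ) (h' : IsTor β s t τ) : α = β :=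
  ext_aut fun g => ⟨by rw [h.a, h'.a], by rw [h.b, h'.b], by rw [h.c, h'.c], by rw [h.d, h'.d], by rw [h.e, h'.e],
    by rw [h.f, h'.f]⟩

theorem hasTor (hK : HypG K 3 1) (h : ∃ d ∈ D, IsTor d (-1) 1 (RingEquiv.refl K)) :
    HasTor D (fun t => t⁻¹) (fun t => t ^ 2) := by
  intro t ht α hα
  rcases pm hK ht with rfl | rfl
  · have : α = 1 := ext_aut fun g => ⟨by rw [hα.a]; simp, by rw [hα.b]; simp, by rw [hα.c]; simp, by rw [hα.d]; simp,
      by rw [hα.e]; simp, by rw [hα.f]; simp⟩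
    rw [this]
    exact one_mem D
  · obtain ⟨d, hd, hd'⟩ := h
    have h1 : IsTor α (-1) 1 (RingEquiv.refl K) := by
      have e1 : ((-1 : K))⁻¹ = -1 := by rw [inv_neg, inv_one]
      have e2 : (-1 : K) ^ 2 = 1 := by ring
      have := hα
      simp only [e1, e2] at this
      exact this
    rw [tor_unique h1 hd']
    exact hd

/-! ### `D` full -/

/-- the torus elements of `Γ` -/
theorem exists_torB (hK : HypG K 3 1) (hP : Par 3 (Qb K) Γ D) (hF : Full D) {s t : K} (hs : s ≠ 0) (ht : t ≠ 0) :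
    ∃ τ ∈ Γ, TorB τ s t ∧ ∃ α ∈ D, IsTor α s t (RingEquiv.refl K) ∧ IsR α τ := by
  obtain ⟨α, hα⟩ := exists_tor (RingEquiv.refl K) hs ht
  obtain ⟨τ, hτ⟩ := exists_res hK (α := α) (fun g hg => by rw [hα.b, hg]; simp)
  have hαD : α ∈ D := hF s t α hα
  exact ⟨τ, hP.D_res α hαD τ hτ, torB_of hK hα hτ, α, hαD, hα, hτ⟩

theorem w_form (hK : HypG K 3 1) (hP : Par 3 (Qb K) Γ D) (hF : Full D)
    (hf : ∀ γ ∈ Γ, mt γ = 1 → ∃ y : Qb K, γ = cj (y : GU K)) {w₀ : MulAut (Qb K)} (hw₀ : w₀ ∈ Γ)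
    (hM₀ : mt w₀ = !![0, -1; 1, 0]) :
    ∃ w ∈ Γ, mt w = !![0, -1; 1, 0] ∧ ∃ k : K, w (qb 1 0 0 0 0) = qb 0 1 0 k 0 ∧ w (qb 0 1 0 0 0) = qb (-1) 0 0 0 (-k) ∧
      w (qb 0 0 0 1 0) = qb 0 0 0 0 1 ∧ w (qb 0 0 0 0 1) = qb 0 0 0 (-1) 0 := by
  have h3 := three_zero hK
  -- the coordinates of the matrix
  have hmt : ∀ {w : MulAut (Qb K)}, mt w = !![0, -1; 1, 0] → ((w (qb 1 0 0 0 0) : Qb K) : GU K).a = 0 ∧
      ((w (qb 0 1 0 0 0) : Qb K) : GU K).a = -1 ∧ ((w (qb 1 0 0 0 0) : Qb K) : GU K).c = 1 ∧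
      ((w (qb 0 1 0 0 0) : Qb K) : GU K).c = 0 := fun h =>
    ⟨congrFun (congrFun h 0) 0, congrFun (congrFun h 0) 1, congrFun (congrFun h 1) 0, congrFun (congrFun h 1) 1⟩
  -- adjust by an inner automorphism
  obtain ⟨w, hw, hM, hd1, hd3⟩ : ∃ w ∈ Γ, mt w = !![0, -1; 1, 0] ∧ ((w (qb 1 0 0 0 0) : Qb K) : GU K).d = 0 ∧
      ((w (qb 0 1 0 0 0) : Qb K) : GU K).d = 0 := by
    obtain ⟨n1, n2, n3, n4⟩ := hmt hM₀
    set y : GU K := ⟨-((w₀ (qb 1 0 0 0 0) : Qb K) : GU K).d, 0, -((w₀ (qb 0 1 0 0 0) : Qb K) : GU K).d, 0, 0, 0⟩ with hy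
    refine ⟨cj y * w₀, mul_mem (cj_mem hP _) hw₀, ?_, ?_, ?_⟩
    · rw [mt_mul hK, mt_cj hK, hM₀, Matrix.mul_fin_two]
      show !![1 * 0 + 0 * 1, 1 * -1 + 0 * 0; 0 * 0 + 1 * 1, 0 * -1 + 1 * 0] = _
      refine mk2 ?_ ?_ ?_ ?_ <;> ring
    · rw [MulAut.mul_apply, ((cj_coord hK y _).2.2 rfl).1, n1, n3]
      simp only [hy]
      ring
    · rw [MulAut.mul_apply, ((cj_coord hK y _).2.2 rfl).1, n2, n4]
      simp only [hy]
      ring
  obtain ⟨m1, m2, m3, m4⟩ := hmt hM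
  -- equivariance
  have heq : ∀ {s t : K} {τ τ' : MulAut (Qb K)}, τ ∈ Γ → τ' ∈ Γ → TorB τ s t → TorB τ' (s * t) t → ∀ g : Qb K,
      ((w (τ g) : Qb K) : GU K).e = s * ((w g : Qb K) : GU K).e ∧
      ((w (τ g) : Qb K) : GU K).f = s * t * ((w g : Qb K) : GU K).f ∧
      ((g : GU K).a = 0 → (g : GU K).c = 0 → ((w (τ g) : Qb K) : GU K).d = t * ((w g : Qb K) : GU K).d) := by
    intro s t τ τ' hτ hτ' hT hT' g
    have hi : mt w⁻¹ = !![0, 1; -1, 0] := by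
      apply mt_inv_of hK
      rw [hM, Matrix.mul_fin_two, Matrix.one_fin_two]
      refine mk2 ?_ ?_ ?_ ?_ <;> ring
    have hs2 := sq_one hK hT.ne1
    have ht2 := sq_one hK hT.ne2
    have hi' : mt τ'⁻¹ = !![s * t, 0; 0, s] := by
      apply mt_inv_of hK
      rw [hT'.mt, Matrix.mul_fin_two, Matrix.one_fin_two]
      refine mk2 ?_ ?_ ?_ ?_
      · linear_combination t * t * hs2 + ht2
      · ring
      · ring
      · linear_combination t * t * hs2 + ht2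
    obtain ⟨y, hy⟩ := hf (w * τ * w⁻¹ * τ'⁻¹) (mul_mem (mul_mem (mul_mem hw hτ) (inv_mem hw)) (inv_mem hτ')) (by
      rw [mt_mul hK, mt_mul hK, mt_mul hK, hM, hi, hi', hT.mt, Matrix.mul_fin_two, Matrix.mul_fin_two,
        Matrix.mul_fin_two, Matrix.one_fin_two]
      refine mk2 ?_ ?_ ?_ ?_
      · linear_combination t * t * hs2 + ht2
      · ring
      · ring
      · linear_combination hs2)
    have e : w (τ g) = cj (y : GU K) (τ' (w g)) := by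
      rw [← hy]
      simp only [MulAut.mul_apply]
      have k1 : τ'⁻¹ (τ' (w g)) = w g := MulAut.inv_apply_self _ _ _
      have k2 : w⁻¹ (w g) = g := MulAut.inv_apply_self _ _ _
      rw [k1, k2]
    obtain ⟨-, -, hc⟩ := cj_coord hK (y : GU K) (τ' (w g))
    obtain ⟨c1, c2, c3⟩ := hc y.2
    rw [e]
    refine ⟨?_, ?_, fun ha hc' => ?_⟩
    · rw [c2, hT'.e]
      linear_combination s * ((w g : Qb K) : GU K).e * ht2
    · rw [c3, hT'.f]
    · obtain ⟨z1, z2⟩ := map_central hK w ha hc'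
      obtain ⟨z3, z4⟩ := map_central hK τ' z1 z2
      rw [c1, z3, z4, hT'.d]
      ring
  have hne : (-1 : K) ≠ 0 := neg_ne_zero.2 one_ne_zero
  obtain ⟨τ1, g1, hT1, -⟩ := exists_torB hK hP hF (s := 1) (t := -1) one_ne_zero hne
  obtain ⟨τ2, g2, hT2, -⟩ := exists_torB hK hP hF (s := -1) (t := -1) hne hne
  obtain ⟨τ3, g3, hT3, -⟩ := exists_torB hK hP hF (s := -1) (t := 1) hne one_ne_zero
  have q1 := @heq 1 (-1) τ1 τ2 g1 g2 hT1 (by rw [one_mul]; exact hT2)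
  have q2 := @heq (-1) (-1) τ2 τ1 g2 g1 hT2 (by rw [neg_mul_neg, one_mul]; exact hT1)
  -- fixed generators
  have f1 : τ1 (qb 1 0 0 0 0) = qb 1 0 0 0 0 := by
    rw [eq_qb (τ1 (qb 1 0 0 0 0)), hT1.a, hT1.c, hT1.d, hT1.e, hT1.f]
    simp [qb]
  have f3 : τ2 (qb 0 1 0 0 0) = qb 0 1 0 0 0 := by
    rw [eq_qb (τ2 (qb 0 1 0 0 0)), hT2.a, hT2.c, hT2.d, hT2.e, hT2.f]
    simp [qb]
  have f5 : τ2 (qb 0 0 0 1 0) = qb 0 0 0 1 0 := by
    rw [eq_qb (τ2 (qb 0 0 0 1 0)), hT2.a, hT2.c, hT2.d, hT2.e, hT2.f]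
    simp [qb]
  have f6 : τ1 (qb 0 0 0 0 1) = qb 0 0 0 0 1 := by
    rw [eq_qb (τ1 (qb 0 0 0 0 1)), hT1.a, hT1.c, hT1.d, hT1.e, hT1.f]
    simp [qb]
  have z1 : ((w (qb 1 0 0 0 0) : Qb K) : GU K).f = 0 := by
    apply eq_zero_of_neg hK
    have := (q1 (qb 1 0 0 0 0)).2.1
    rw [f1] at this
    linear_combination this
  have z3 : ((w (qb 0 1 0 0 0) : Qb K) : GU K).e = 0 := by
    apply eq_zero_of_neg hK
    have := (q2 (qb 0 1 0 0 0)).1
    rw [f3] at this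
    linear_combination this
  have z5 : ((w (qb 0 0 0 1 0) : Qb K) : GU K).e = 0 := by
    apply eq_zero_of_neg hK
    have := (q2 (qb 0 0 0 1 0)).1
    rw [f5] at this
    linear_combination this
  have y5 : ((w (qb 0 0 0 1 0) : Qb K) : GU K).d = 0 := by
    apply eq_zero_of_neg hK
    have := (q2 (qb 0 0 0 1 0)).2.2 rfl rfl
    rw [f5] at this
    linear_combination this
  have z6 : ((w (qb 0 0 0 0 1) : Qb K) : GU K).f = 0 := by
    apply eq_zero_of_neg hK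
    have := (q1 (qb 0 0 0 0 1)).2.1
    rw [f6] at this
    linear_combination this
  have y6 : ((w (qb 0 0 0 0 1) : Qb K) : GU K).d = 0 := by
    apply eq_zero_of_neg hK
    have := (q1 (qb 0 0 0 0 1)).2.2 rfl rfl
    rw [f6] at this
    linear_combination this
  obtain ⟨a5, c5⟩ := map_central hK w (z := qb 0 0 0 1 0) rfl rfl
  obtain ⟨a6, c6⟩ := map_central hK w (z := qb 0 0 0 0 1) rfl rfl
  set k := ((w (qb 1 0 0 0 0) : Qb K) : GU K).e with hk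
  set k' := ((w (qb 0 1 0 0 0) : Qb K) : GU K).f with hk'
  set F := ((w (qb 0 0 0 1 0) : Qb K) : GU K).f with hFd
  set E := ((w (qb 0 0 0 0 1) : Qb K) : GU K).e with hEd
  have w1 : w (qb 1 0 0 0 0) = qb 0 1 0 k 0 := by rw [eq_qb (w (qb 1 0 0 0 0)), m1, m3, hd1, z1]
  have w3 : w (qb 0 1 0 0 0) = qb (-1) 0 0 0 k' := by rw [eq_qb (w (qb 0 1 0 0 0)), m2, m4, hd3, z3]
  have w5 : w (qb 0 0 0 1 0) = qb 0 0 0 0 F := by rw [eq_qb (w (qb 0 0 0 1 0)), a5, c5, y5, z5]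
  have w6 : w (qb 0 0 0 0 1) = qb 0 0 0 E 0 := by rw [eq_qb (w (qb 0 0 0 0 1)), a6, c6, y6, z6]
  -- the square of `w`
  have hsq : ∀ g : Qb K, ((w (w g) : Qb K) : GU K).e = - (g : GU K).e ∧ ((w (w g) : Qb K) : GU K).f = - (g : GU K).f := by
    intro g
    have hi' : mt τ3⁻¹ = !![-1, 0; 0, -1] := by
      apply mt_inv_of hK
      rw [hT3.mt, Matrix.mul_fin_two, Matrix.one_fin_two]
      refine mk2 ?_ ?_ ?_ ?_ <;> ring
    obtain ⟨y, hy⟩ := hf (w * w * τ3⁻¹) (mul_mem (mul_mem hw hw) (inv_mem g3)) (by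
      rw [mt_mul hK, mt_mul hK, hM, hi', Matrix.mul_fin_two, Matrix.mul_fin_two, Matrix.one_fin_two]
      refine mk2 ?_ ?_ ?_ ?_ <;> ring)
    have e : w (w g) = cj (y : GU K) (τ3 g) := by
      rw [← hy]
      simp only [MulAut.mul_apply]
      have k1 : τ3⁻¹ (τ3 g) = g := MulAut.inv_apply_self _ _ _
      rw [k1]
    obtain ⟨-, -, hc⟩ := cj_coord hK (y : GU K) (τ3 g)
    obtain ⟨-, c2, c3⟩ := hc y.2
    rw [e, c2, c3, hT3.e, hT3.f]
    constructor <;> ring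
  have r1 : E * F = -1 := by
    have h4 := (hsq (qb 0 0 0 1 0)).1
    rw [w5, form_e hK, ← hk, ← hEd] at h4
    simp only [qb] at h4
    linear_combination h4
  have r2 : k' + k * F = 0 := by
    have h4 := (hsq (qb 1 0 0 0 0)).2
    rw [w1, form_f hK, ← hk', ← hFd] at h4
    simp only [qb] at h4
    linear_combination h4
  -- the order of `x_β(1) w`
  have r3 : E = -1 := by
    obtain ⟨y, hy⟩ := hf (cj (x2 1) * w * (cj (x2 1) * w) * (cj (x2 1) * w))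
      (mul_mem (mul_mem (mul_mem (cj_mem hP _) hw) (mul_mem (cj_mem hP _) hw)) (mul_mem (cj_mem hP _) hw)) (by
      rw [mt_mul hK, mt_mul hK, mt_mul hK, mt_cj hK, hM]
      show !![1, 0; 1, 1] * !![0, -1; 1, 0] * (!![1, 0; 1, 1] * !![0, -1; 1, 0]) *
        (!![1, 0; 1, 1] * !![0, -1; 1, 0]) = 1
      simp only [Matrix.mul_fin_two]
      rw [Matrix.one_fin_two]
      refine mk2 ?_ ?_ ?_ ?_ <;> ring)
    have h4 := congrArg (fun g : Qb K => (g : GU K).e) (congrArg (fun θ : MulAut (Qb K) => θ (qb 0 0 0 1 0)) hy)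
    obtain ⟨-, -, hc⟩ := cj_coord hK (y : GU K) (qb 0 0 0 1 0)
    have lin : ∀ e f : K, w (qb 0 0 0 e f) = qb 0 0 0 (f * E) (e * F) := by
      intro e f
      obtain ⟨b1, b2⟩ := map_central hK w (z := qb 0 0 0 e f) rfl rfl
      have h5 : w (qb 0 0 0 e f) = w (qb 0 0 0 e 0) * w (qb 0 0 0 0 f) := by
        rw [← map_mul, qb_mul h3]
        congr 2 <;> ring
      have h6 : ∀ e, w (qb 0 0 0 e 0) = qb 0 0 0 0 (e * F) := by
        intro e
        rcases tri hK e with rfl | rfl | rfl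
        · rw [zero_mul, qb_one, map_one]
        · rw [one_mul, w5]
        · have : qb (0 : K) 0 0 (-1) 0 = (qb 0 0 0 1 0)⁻¹ := by
            rw [eq_inv_iff_mul_eq_one, qb_mul h3, ← qb_one]
            congr 1 <;> ring
          rw [this, map_inv, w5, inv_eq_iff_mul_eq_one, qb_mul h3, ← qb_one]
          congr 1 <;> ring
      have h7 : ∀ f, w (qb 0 0 0 0 f) = qb 0 0 0 (f * E) 0 := by
        intro f
        rcases tri hK f with rfl | rfl | rfl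
        · rw [zero_mul, qb_one, map_one]
        · rw [one_mul, w6]
        · have : qb (0 : K) 0 0 0 (-1) = (qb 0 0 0 0 1)⁻¹ := by
            rw [eq_inv_iff_mul_eq_one, qb_mul h3, ← qb_one]
            congr 1 <;> ring
          rw [this, map_inv, w6, inv_eq_iff_mul_eq_one, qb_mul h3, ← qb_one]
          congr 1 <;> ring
      rw [h5, h6, h7, qb_mul h3]
      congr 1 <;> ring
    simp only [MulAut.mul_apply] at h4
    rw [lin, cj_x2, lin, cj_x2, lin, cj_x2, (hc y.2).2.1] at h4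
    simp only [qb] at h4
    linear_combination E * r1 - h4
  have r4 : F = 1 := by rw [r3] at r1; linear_combination -r1
  have r5 : k' = -k := by rw [r4] at r2; linear_combination r2
  refine ⟨w, hw, hM, k, w1, ?_, ?_, ?_⟩
  · rw [w3, r5]
  · rw [w5, r4]
  · rw [w6, r3]

end gam

end Cfsg.Agent.H446.GT
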