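import Cfsg.Agent.H446.GT.QThreeB

/-!
# S5211, `q = 3`: `StAut3`, `StLb3` (helper446)
-/

set_option autoImplicit false

namespace Cfsg.Agent.H446.GT

open Cfsg Cfsg.FusionSystem Cfsg.Agent.H756.PU Cfsg.Agent.H779.G2 Cfsg.Agent.H103.GT

universe u v

/-- the underlying map of a central automorphism -/
def ceMap {K : Type u} [Field K] (k k' : K) (g : GU K) : GU K :=
  ⟨g.a, g.b, g.c, g.d + k' * g.b, g.e, g.f + k * g.a⟩

theorem ceMap_mul {K : Type u} [Field K] (h3 : (3 : K) = 0) (k k' : K) (x y : GU K) :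
    ceMap k k' (x * y) = ceMap k k' x * ceMap k k' y := by
  ext
  · simp only [ceMap, GU.mul_a]
  · simp only [ceMap, GU.mul_b]
  · simp only [ceMap, GU.mul_c]
  · simp only [ceMap, GU.mul_b, GU.mul_d]; ring
  · simp only [ceMap, GU.mul_e]
    linear_combination (-k' * x.b * y.a) * h3
  · simp only [ceMap, GU.mul_a, GU.mul_f]
    linear_combination (-k' * x.b * y.c + k' * x.b * y.a * y.b) * h3

theorem stAut3 : StAut3.{u} := by
  intro K _ hK k k'
  have hf := hK.fin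
  refine ⟨mkAut (ceMap k k') (ceMap_mul (three_zero hK) k k') ?_, fun _ => rfl, fun _ => rfl, fun _ => rfl,
    fun _ => rfl, fun _ => rfl, fun _ => rfl⟩
  intro x hx
  have ha : x.a = 0 := congrArg GU.a hx
  have hb : x.b = 0 := congrArg GU.b hx
  have hc : x.c = 0 := congrArg GU.c hx
  have hd : x.d + k' * x.b = 0 := congrArg GU.d hx
  have he : x.e = 0 := congrArg GU.e hx
  have hf' : x.f + k * x.a = 0 := congrArg GU.f hx
  rw [hb] at hd
  rw [ha] at hf'
  have hd' : x.d = 0 := by linear_combination hd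
  have hf'' : x.f = 0 := by linear_combination hf'
  ext <;> assumption

theorem ce3_unique {K : Type u} [Field K] {k k' : K} {α β : MulAut (GU K)} (h : IsCe3 k k' α) (h' : IsCe3 k k' β) :
    α = β :=
  ext_aut fun g => ⟨by rw [h.a, h'.a], by rw [h.b, h'.b], by rw [h.c, h'.c], by rw [h.d, h'.d], by rw [h.e, h'.e],
    by rw [h.f, h'.f]⟩

section gam

variable {K : Type u} [Field K] {Γ : Subgroup (MulAut (Qb K))} {D : Subgroup (MulAut (GU K))}

/-- conjugation of `cj` by the restriction of an automorphism -/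
theorem res_cj {α : MulAut (GU K)} {C : MulAut (Qb K)} (hC : IsR α C) (x : GU K) : C * cj x = cj (α x) * C := by
  apply MulEquiv.ext
  intro g
  apply Subtype.ext
  rw [MulAut.mul_apply, MulAut.mul_apply, hC, cj_apply, cj_apply, hC, map_mul, map_mul, map_inv]

/-- the restriction of the central automorphism -/
theorem ce_apply {α : MulAut (GU K)} {C : MulAut (Qb K)} {k : K} (hα : IsCe3 k 0 α) (hC : IsR α C) (a c d e f : K) :
    C (qb a c d e f) = qb a c d e (f + k * a) := by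
  apply Subtype.ext
  rw [hC]
  apply GU.ext
  · rw [hα.a]; rfl
  · rw [hα.b]; rfl
  · rw [hα.c]; rfl
  · rw [hα.d]; simp [qb]
  · rw [hα.e]; rfl
  · rw [hα.f]; rfl

theorem ce_tor {α : MulAut (GU K)} {C τ : MulAut (Qb K)} {k s t : K} (hα : IsCe3 k 0 α) (hC : IsR α C)
    (hτ : TorB τ s t) : C * τ = τ * C := by
  apply MulEquiv.ext
  intro g
  rw [MulAut.mul_apply, MulAut.mul_apply, eq_qb (τ g), ce_apply hα hC, eq_qb (τ (C g)), hτ.a, hτ.c, hτ.d, hτ.e, hτ.f,
    hτ.a, hτ.c, hτ.d, hτ.e, hτ.f, hC, hα.a, hα.c, hα.d, hα.e, hα.f]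
  congr 1 <;> ring

theorem ce_wb (hK : HypG K 3 1) {α : MulAut (GU K)} {C w δ : MulAut (Qb K)} {k : K} (hα : IsCe3 k 0 α) (hC : IsR α C)
    (h1 : w (qb 1 0 0 0 0) = qb 0 1 0 k 0) (hc : w (qb 0 1 0 0 0) = qb (-1) 0 0 0 (-k))
    (he : w (qb 0 0 0 1 0) = qb 0 0 0 0 1) (hf : w (qb 0 0 0 0 1) = qb 0 0 0 (-1) 0) (hδ : IsWb δ) :
    C * δ = w * C := by
  have h3 := three_zero hK
  have key : ∀ g : Qb K, δ g = qb (-(g : GU K).c) (g : GU K).a ((g : GU K).d - 2 * (g : GU K).a * (g : GU K).c)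
      (-(g : GU K).f + 3 * (g : GU K).a * (g : GU K).c ^ 2) ((g : GU K).e - 3 * (g : GU K).a ^ 2 * (g : GU K).c) := by
    intro g
    rw [eq_qb (δ g), hδ.a, hδ.c, hδ.d, hδ.e, hδ.f]
  have lin6 : ∀ f, w (qb 0 0 0 0 f) = qb 0 0 0 (-f) 0 := by
    intro f
    rcases tri hK f with rfl | rfl | rfl
    · rw [neg_zero, qb_one, map_one]
    · exact hf
    · have : qb (0 : K) 0 0 0 (-1) = (qb 0 0 0 0 1)⁻¹ := by
        rw [eq_inv_iff_mul_eq_one, qb_mul h3, ← qb_one]
        congr 1 <;> ring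
      rw [this, map_inv, hf, inv_eq_iff_mul_eq_one, qb_mul h3, ← qb_one]
      congr 1 <;> ring
  have : (C * δ).toMonoidHom = (w * C).toMonoidHom := by
    apply hom_ext hK
    · show C (δ (qb 1 0 0 0 0)) = w (C (qb 1 0 0 0 0))
      have e : qb (1 : K) 0 0 0 (0 + k * 1) = qb 1 0 0 0 0 * qb 0 0 0 0 k := by
        rw [qb_mul h3]
        congr 1 <;> ring
      rw [key, ce_apply hα hC, ce_apply hα hC, e, map_mul, h1, lin6, qb_mul h3]
      simp only [qb]
      congr 1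
      congr 1 <;> ring
    · show C (δ (qb 0 1 0 0 0)) = w (C (qb 0 1 0 0 0))
      rw [key, ce_apply hα hC, ce_apply hα hC, mul_zero, add_zero, hc]
      simp only [qb]
      congr 1
      congr 1 <;> ring
    · show C (δ (qb 0 0 0 1 0)) = w (C (qb 0 0 0 1 0))
      rw [key, ce_apply hα hC, ce_apply hα hC, mul_zero, add_zero, he]
      simp only [qb]
      congr 1
      congr 1 <;> ring
    · show C (δ (qb 0 0 0 0 1)) = w (C (qb 0 0 0 0 1))
      rw [key, ce_apply hα hC, ce_apply hα hC, mul_zero, add_zero, hf]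
      simp only [qb]
      congr 1
      congr 1 <;> ring
  exact MulEquiv.ext fun g => congrArg (fun θ : Qb K →* Qb K => θ g) this

/-- a subgroup containing the induced automorphisms, `w` and the torus contains `Γ` -/
theorem le_of_gens (hK : HypG K 3 1) (hP : Par 3 (Qb K) Γ D) (hF : Full D)
    (hf : ∀ γ ∈ Γ, mt γ = 1 → ∃ y : Qb K, γ = cj (y : GU K)) {G : Subgroup (MulAut (Qb K))} (hG : G ≤ Γ)
    (h1 : ∀ x : GU K, cj x ∈ G) {w : MulAut (Qb K)} (hw : w ∈ G) (hM : mt w = !![0, -1; 1, 0])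
    (h2 : ∀ d ∈ D, ∀ τ : MulAut (Qb K), IsR d τ → τ ∈ G) : Γ ≤ G := by
  -- lower triangular
  have low : ∀ γ ∈ Γ, mt γ 0 1 = 0 → γ ∈ G := by
    intro γ hγ h
    obtain ⟨p, q, r, s, hM⟩ : ∃ p q r s, mt γ = !![p, q; r, s] := ⟨_, _, _, _, rfl⟩
    have hq : q = 0 := by rw [hM] at h; simpa using h
    subst hq
    have hp : p ≠ 0 := by
      rintro rfl
      have h4 : mt γ * mt γ⁻¹ = 1 := by rw [← mt_mul hK, mul_inv_cancel, mt_one]
      rw [hM] at h4
      have h5 := congrFun (congrFun h4 0) 0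
      rw [Matrix.mul_apply, Fin.sum_univ_two] at h5
      simp at h5
    have hs : s ≠ 0 := by
      rintro rfl
      have h4 : mt γ⁻¹ * mt γ = 1 := by rw [← mt_mul hK, inv_mul_cancel, mt_one]
      rw [hM] at h4
      have h5 := congrFun (congrFun h4 1) 1
      rw [Matrix.mul_apply, Fin.sum_univ_two] at h5
      simp at h5
    have hp2 := sq_one hK hp
    have hs2 := sq_one hK hs
    obtain ⟨τ, hτ, hT, α, hα, -, hR⟩ := exists_torB hK hP hF (s := p) (t := p * s) hp (mul_ne_zero hp hs)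
    have hτG : τ ∈ G := h2 α hα τ hR
    have hi : mt τ⁻¹ = !![p, 0; 0, s] := by
      apply mt_inv_of hK
      rw [hT.mt, Matrix.mul_fin_two, Matrix.one_fin_two]
      refine mk2 ?_ ?_ ?_ ?_
      · linear_combination hp2
      · ring
      · ring
      · linear_combination hs2 + s * s * hp2
    obtain ⟨y, hy⟩ := hf (cj (x2 (-(r * p))) * γ * τ⁻¹)
      (mul_mem (mul_mem (cj_mem hP _) hγ) (inv_mem hτ)) (by
      rw [mt_mul hK, mt_mul hK, mt_cj hK, hM, hi]
      show !![1, 0; -(r * p), 1] * !![p, 0; r, s] * !![p, 0; 0, s] = 1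
      rw [Matrix.mul_fin_two, Matrix.mul_fin_two, Matrix.one_fin_two]
      refine mk2 ?_ ?_ ?_ ?_
      · linear_combination hp2
      · ring
      · linear_combination -r * p * hp2
      · linear_combination hs2)
    have e : γ = (cj (x2 (-(r * p))))⁻¹ * cj (y : GU K) * τ := by
      rw [← hy]
      group
    rw [e]
    exact mul_mem (mul_mem (inv_mem (h1 _)) (h1 _)) hτG
  intro γ hγ
  by_cases h : mt γ 0 1 = 0
  · exact low γ hγ h
  obtain ⟨p, q, r, s, hM'⟩ : ∃ p q r s, mt γ = !![p, q; r, s] := ⟨_, _, _, _, rfl⟩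
  have hq : q ≠ 0 := by rw [hM'] at h; simpa using h
  have hq2 := sq_one hK hq
  have h4 : w * (cj (x2 (-(q * s))) * γ) ∈ G := by
    apply low _ (mul_mem (hG hw) (mul_mem (cj_mem hP _) hγ))
    rw [mt_mul hK, mt_mul hK, mt_cj hK, hM, hM']
    show (!![0, -1; 1, 0] * (!![1, 0; -(q * s), 1] * !![p, q; r, s]) : Matrix (Fin 2) (Fin 2) K) 0 1 = 0
    rw [Matrix.mul_fin_two, Matrix.mul_fin_two]
    show 0 * (1 * q + 0 * s) + -1 * (-(q * s) * q + 1 * s) = 0
    linear_combination s * hq2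
  have e : γ = (cj (x2 (-(q * s))))⁻¹ * (w⁻¹ * (w * (cj (x2 (-(q * s))) * γ))) := by group
  rw [e]
  exact mul_mem (inv_mem (h1 _)) (mul_mem (inv_mem hw) h4)

end gam

theorem stLb3 (h0 : StLb0.{u}) : StLb3.{u} := by
  intro K _ hK Γ D hP
  obtain ⟨hf, γ0, hγ0, hne⟩ := faith hK h0 hP
  obtain ⟨w₀, hw₀, hM₀⟩ := exists_w hK hP hγ0 hne
  refine ⟨hasTor hK (neg_one_mem hK hP hf hw₀ hM₀), fun hF => ?_⟩
  obtain ⟨w, hw, hM, k, w1, w3, w5, w6⟩ := w_form hK hP hF hf hw₀ hM₀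
  obtain ⟨α, hα⟩ := stAut3 hK k 0
  obtain ⟨C, hC⟩ := exists_res hK (α := α) (fun g hg => by rw [hα.b, hg])
  have hfin := hK.fin
  obtain ⟨β, hβ⟩ : ∃ β : MulAut (GU K), IsR β C⁻¹ := ⟨α⁻¹, fun g => by
    have h1 : α ((C⁻¹ g : Qb K) : GU K) = g := by
      rw [← hC]
      have : C (C⁻¹ g) = g := MulAut.apply_inv_self _ _ _
      rw [this]
    rw [← h1]
    exact (MulAut.inv_apply_self _ _ _).symm⟩
  set G : Subgroup (MulAut (Qb K)) := (Gen IsWb D).comap (MulAut.conj C⁻¹).toMonoidHom with hGd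
  have hG : ∀ γ, γ ∈ G ↔ C⁻¹ * γ * C ∈ Gen IsWb D := by
    intro γ
    rw [hGd, Subgroup.mem_comap]
    show C⁻¹ * γ * (C⁻¹)⁻¹ ∈ _ ↔ _
    rw [inv_inv]
  have gcj : ∀ x : GU K, cj x ∈ G := by
    intro x
    rw [hG, res_cj hβ, mul_assoc, inv_mul_cancel, mul_one]
    exact Subgroup.subset_closure (Or.inl (Or.inl (mem_indu.2 ⟨_, rfl⟩)))
  obtain ⟨δ, hδ⟩ := exists_wb (K := K)
  have hwδ : C * δ = w * C := ce_wb hK hα hC w1 w3 w5 w6 hδ
  have gw : w ∈ G := by
    rw [hG, mul_assoc, ← hwδ, inv_mul_cancel_left]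
    exact Subgroup.subset_closure (Or.inl (Or.inr hδ))
  have hres : ∀ d ∈ D, ∀ τ : MulAut (Qb K), IsR d τ → C * τ = τ * C := by
    intro d hd τ hτ
    have hb : (d (x1 1)).b = 0 := by
      have h4 := hτ (qb 1 0 0 0 0)
      have h5 : ((qb 1 0 0 0 0 : Qb K) : GU K) = x1 1 := rfl
      rw [h5] at h4
      rw [← h4]
      exact (τ (qb 1 0 0 0 0)).2
    obtain ⟨s, t, hst⟩ := tor_of_D hK hP.D_le hd hb
    exact ce_tor hα hC (torB_of hK hst hτ)
  have gD : ∀ d ∈ D, ∀ τ : MulAut (Qb K), IsR d τ → τ ∈ G := by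
    intro d hd τ hτ
    rw [hG, mul_assoc, ← hres d hd τ hτ, inv_mul_cancel_left]
    exact Subgroup.subset_closure (Or.inr ⟨d, hd, hτ⟩)
  have hle : G ≤ Γ := by
    have h1 : Gen IsWb D ≤ Γ.comap (MulAut.conj C).toMonoidHom := by
      refine (Subgroup.closure_le _).2 ?_
      rintro γ ((hγ | hγ) | ⟨d, hd, hγ⟩)
      · obtain ⟨x, rfl⟩ := mem_indu.1 hγ
        show C * cj x * C⁻¹ ∈ Γ
        rw [res_cj hC, mul_assoc, mul_inv_cancel, mul_one]
        exact cj_mem hP _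
      · show C * γ * C⁻¹ ∈ Γ
        rw [ce_wb hK hα hC w1 w3 w5 w6 hγ, mul_assoc, mul_inv_cancel, mul_one]
        exact hw
      · show C * γ * C⁻¹ ∈ Γ
        rw [hres d hd γ hγ, mul_assoc, mul_inv_cancel, mul_one]
        exact hP.D_res d hd γ hγ
    intro γ hγ
    have h2 := h1 ((hG γ).1 hγ)
    have h4 : C * (C⁻¹ * γ * C) * C⁻¹ ∈ Γ := h2
    have e : C * (C⁻¹ * γ * C) * C⁻¹ = γ := by group
    rwa [e] at h4
  have heq : Γ = G := le_antisymm (le_of_gens hK hP hF hf hle gcj gw hM gD) hle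
  refine ⟨k, fun γ => ?_⟩
  rw [heq, hG]
  constructor
  · intro h
    refine ⟨_, h, fun α' hα' g g' hg => ?_⟩
    have : α' = α := ce3_unique hα' hα
    subst this
    have h1 : g' = C g := Subtype.ext (hg.trans (hC g).symm)
    rw [← hC, h1]
    simp only [MulAut.mul_apply]
    have h2 : C (C⁻¹ (γ (C g))) = γ (C g) := MulAut.apply_inv_self _ _ _
    rw [h2]
  · rintro ⟨δ', hδ', h⟩
    have h1 : C * δ' = γ * C := by
      apply MulEquiv.ext
      intro g
      apply Subtype.ext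
      rw [MulAut.mul_apply, MulAut.mul_apply, hC]
      exact h α hα g (C g) (hC g)
    rw [mul_assoc, ← h1, inv_mul_cancel_left]
    exact hδ'

end Cfsg.Agent.H446.GT
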